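import Cfsg.Agent.R2.PX.A.Grp
import Cfsg.Agent.H952.F4.Defs2

/-!
# S5771, n = 8, p = 5: counting in `3² × 2` (helper24)
-/

set_option autoImplicit false

namespace Cfsg.Agent.R2.T1.E5

open Module
open Cfsg.Agent.H952.F4 (ev es)
open Cfsg.Agent.R2.PX.A

universe u v w

variable {K : Type u} [Field K] {M : Type v} [AddCommGroup M] [Module K M] {G : Type w} [Group G]
  {ρ : Representation K G M}

theorem nn_two' {w s : G} (hw : w ^ 3 = 1) (hs : s ^ 2 = 1) (hc : w * s = s * w) : nn ρ [w, s] = ev (ρ (w * s)) 1 := by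
  have h : FX ρ [w, s] = Module.End.eigenspace (ρ (w * s)) 1 := by
    ext v
    rw [mem_FX, Module.End.mem_eigenspace_iff, one_smul]
    simp only [List.mem_cons, List.not_mem_nil, or_false, forall_eq_or_imp, forall_eq]
    constructor
    · rintro ⟨h1, h2⟩
      rw [map_mul, Module.End.mul_apply, h2, h1]
    · intro h
      have hpow : ∀ n : ℕ, ρ ((w * s) ^ n) v = v := by
        intro n
        induction n with
        | zero => rw [pow_zero, map_one, Module.End.one_apply]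
        | succ n ih => rw [pow_succ, map_mul, Module.End.mul_apply, h, ih]
      have h3 := hpow 3
      have h4 := hpow 4
      have hc' : Commute w s := hc
      rw [hc'.mul_pow] at h3 h4
      have e1 : s ^ 3 = s := by rw [pow_succ, hs, one_mul]
      have e2 : s ^ 4 = 1 := by rw [show (4 : ℕ) = 2 * 2 by norm_num, pow_mul, hs, one_pow]
      have e3 : w ^ 4 = w := by rw [pow_succ, hw, one_mul]
      rw [hw, e1, one_mul] at h3
      rw [e2, e3, mul_one] at h4
      exact ⟨h4, h3⟩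
  rw [nn, h, ev]

/-- **counting** -/
theorem count [FiniteDimensional K M] (h3 : (3 : K) ≠ 0) {x z s : G} (hx : x ^ 3 = 1) (hz : z ^ 3 = 1) (hs : s ^ 2 = 1)
    (hxz : x * z = z * x) (cx : x * s = s * x) (cz : z * s = s * z) (hfix : ∀ v, ρ x v = v → ρ s v = v) :
    ∃ e : ℕ, ev (ρ x) 1 + ev (ρ z) 1 + ev (ρ (x * z)) 1 + ev (ρ (x * z * z)) 1 = finrank K M + 3 * e ∧
      ev (ρ x) 1 + ev (ρ (z * s)) 1 + ev (ρ (x * z * s)) 1 + ev (ρ (x * z * z * s)) 1 = ev (ρ s) 1 + 3 * e ∧
      e ≤ ev (ρ (z * s)) 1 ∧ e ≤ ev (ρ (x * z * s)) 1 ∧ e ≤ ev (ρ (x * z * z * s)) 1 ∧ ev (ρ (x * s)) 1 = ev (ρ x) 1 := by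
  have hC : Commute x z := hxz
  have oxz : (x * z) ^ 3 = 1 := by rw [hC.mul_pow, hx, hz, one_mul]
  have oxzz : (x * z * z) ^ 3 = 1 := by
    rw [mul_assoc, (hC.mul_right hC).mul_pow, hx, one_mul, ← pow_two, ← pow_mul, mul_comm 2 3, pow_mul, hz, one_pow]
  have hx3 : x * x * x = 1 := by rw [← pow_three', hx]
  have hz3 : z * z * z = 1 := by rw [← pow_three', hz]
  have kx : Commute x s := cx
  have kz : Commute z s := cz
  have cxz : (x * z) * s = s * (x * z) := kx.mul_left kz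
  have cxzz : (x * z * z) * s = s * (x * z * z) := (kx.mul_left kz).mul_left kz
  have stb : ∀ (l : List G) (g : G), (∀ h ∈ l, g * h = h * g) → Stb l g := by
    intro l g hg h hh
    obtain ⟨k, hk, rfl⟩ := List.mem_map.1 hh
    refine ⟨k, List.mem_cons_of_mem _ hk, 1, List.mem_cons_self, ?_⟩
    rw [mul_one, mul_assoc, ← hg k hk, inv_mul_cancel_left]
  have c9 : C9 [] x z := ⟨hx3, hz3, hxz, stb _ _ (by simp), stb _ _ (by simp)⟩
  have c9s : C9 [s] x z := ⟨hx3, hz3, hxz, stb _ _ (by simpa using cx), stb _ _ (by simpa using cz)⟩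
  have h1 : FX ρ [z, x, s] = FX ρ [z, x] := by
    ext v
    rw [mem_FX, mem_FX]
    simp only [List.mem_cons, List.not_mem_nil, or_false, forall_eq_or_imp, forall_eq]
    exact ⟨fun h => ⟨h.1, h.2.1⟩, fun h => ⟨h.1, h.2, hfix v h.2⟩⟩
  have h2 : FX ρ [x, s] = FX ρ [x] := by
    ext v
    rw [mem_FX, mem_FX]
    simp only [List.mem_cons, List.not_mem_nil, or_false, forall_eq_or_imp, forall_eq]
    exact ⟨fun h => h.1, fun h => ⟨h, hfix v h⟩⟩
  have hge : ∀ w : G, (∀ v, ρ x v = v → ρ z v = v → ρ w v = v) → nn ρ [z, x] ≤ nn ρ [w, s] := by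
    intro w hw
    apply Submodule.finrank_mono
    intro v hv
    rw [mem_FX] at hv ⊢
    simp only [List.mem_cons, List.not_mem_nil, or_false, forall_eq_or_imp, forall_eq] at hv ⊢
    exact ⟨hw v hv.2 hv.1, hfix v hv.2⟩
  have n1 := n9 (ρ := ρ) h3 c9
  have n2 := n9 (ρ := ρ) h3 c9s
  rw [nn_nil] at n1
  have e1 : nn ρ [z, x, s] = nn ρ [z, x] := by rw [nn, h1, nn]
  have e2 : nn ρ [x, s] = nn ρ [x] := by rw [nn, h2, nn]
  have e3 : ∀ g : G, nn ρ [g] = ev (ρ g) 1 := fun g => nn_one g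
  have g1 := hge z (fun v _ h => h)
  have g2 := hge (x * z) (fun v h h' => by rw [map_mul, Module.End.mul_apply, h', h])
  have g3 := hge (x * z * z) (fun v h h' => by
    rw [map_mul, map_mul, Module.End.mul_apply, Module.End.mul_apply, h', h', h])
  rw [nn_two' hz hs cz] at g1
  rw [nn_two' oxz hs cxz] at g2
  rw [nn_two' oxzz hs cxzz] at g3
  rw [e1, e2, nn_two' hz hs cz, nn_two' oxz hs cxz, nn_two' oxzz hs cxzz, e3, e3] at n2
  rw [e3, e3, e3, e3] at n1
  refine ⟨nn ρ [z, x], n1, n2, g1, g2, g3, ?_⟩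
  rw [← nn_two' hx hs cx, e2, e3]

/-- the inverse has the same fixed points -/
theorem ev_inv (w : G) : ev (ρ w⁻¹) 1 = ev (ρ w) 1 := by
  have h : Module.End.eigenspace (ρ w⁻¹) 1 = Module.End.eigenspace (ρ w) 1 := by
    ext v
    rw [Module.End.mem_eigenspace_iff, Module.End.mem_eigenspace_iff, one_smul]
    constructor
    · intro h
      conv_lhs => rw [← h]
      rw [← Module.End.mul_apply, ← map_mul, mul_inv_cancel, map_one, Module.End.one_apply]
    · intro h
      conv_lhs => rw [← h]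
      rw [← Module.End.mul_apply, ← map_mul, inv_mul_cancel, map_one, Module.End.one_apply]
  rw [ev, h, ev]

theorem fix_pow {y : G} {v : M} (h : ρ y v = v) (n : ℕ) : ρ (y ^ n) v = v := by
  induction n with
  | zero => rw [pow_zero, map_one, Module.End.one_apply]
  | succ n ih => rw [pow_succ, map_mul, Module.End.mul_apply, h, ih]

end Cfsg.Agent.R2.T1.E5
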