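import Cfsg.Agent.R2.T1.Inf.PatF
import Cfsg.Agent.R2.PX.A.Grp

/-!
# S5771, n = 8, p = 5: elements of order 6 (helper24)

* `T6`, `chk6` : the patterns of the elements of order dividing 6;
* `six` : the fixed spaces of `u`, `u²`, `u³`.
-/

set_option autoImplicit false
set_option maxRecDepth 100000

namespace Cfsg.Agent.R2.T1.E5

open Cfsg Cfsg.Lie Module Polynomial
open Cfsg.Agent.H943.E7V.Block (D1 rho)
open Cfsg.Agent.H952.F4 (ev es)
open Cfsg.Agent.R2.T1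

universe u v

/-- the patterns of the elements of order dividing 6 -/
def T6 : List (List ℕ × List ℕ) :=
  [([56, 0, 0, 0, 0, 0], [133, 0, 0, 0, 0, 0]),
   ([32, 12, 0, 0, 0, 12], [67, 32, 1, 0, 1, 32]),
   ([32, 0, 12, 0, 12, 0], [67, 0, 33, 0, 33, 0]),
   ([32, 0, 0, 24, 0, 0], [69, 0, 0, 64, 0, 0]),
   ([24, 0, 0, 32, 0, 0], [69, 0, 0, 64, 0, 0]),
   ([20, 16, 2, 0, 2, 16], [49, 32, 10, 0, 10, 32]),
   ([20, 12, 6, 0, 6, 12], [39, 30, 15, 4, 15, 30]),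
   ([20, 6, 6, 12, 6, 6], [37, 17, 16, 30, 16, 17]),
   ([20, 0, 18, 0, 18, 0], [49, 0, 42, 0, 42, 0]),
   ([20, 0, 18, 0, 18, 0], [43, 0, 45, 0, 45, 0]),
   ([16, 10, 8, 4, 8, 10], [33, 24, 18, 16, 18, 24]),
   ([16, 8, 4, 16, 4, 8], [35, 16, 17, 32, 17, 16]),
   ([16, 4, 8, 16, 8, 4], [35, 16, 17, 32, 17, 16]),
   ([14, 0, 21, 0, 21, 0], [49, 0, 42, 0, 42, 0]),
   ([12, 15, 6, 2, 6, 15], [37, 26, 16, 12, 16, 26]),
   ([12, 12, 6, 8, 6, 12], [27, 24, 21, 16, 21, 24]),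
   ([12, 8, 10, 8, 10, 8], [25, 20, 22, 24, 22, 20]),
   ([12, 8, 10, 8, 10, 8], [23, 22, 23, 20, 23, 22]),
   ([12, 6, 6, 20, 6, 6], [37, 17, 16, 30, 16, 17]),
   ([10, 11, 7, 10, 7, 11], [27, 21, 21, 22, 21, 21]),
   ([10, 10, 11, 4, 11, 10], [29, 22, 20, 20, 20, 22]),
   ([10, 7, 11, 10, 11, 7], [27, 21, 21, 22, 21, 21]),
   ([8, 10, 8, 12, 8, 10], [25, 20, 22, 24, 22, 20]),
   ([8, 10, 8, 12, 8, 10], [23, 22, 23, 20, 23, 22]),
   ([8, 9, 12, 6, 12, 9], [25, 20, 22, 24, 22, 20]),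
   ([8, 6, 12, 12, 12, 6], [27, 24, 21, 16, 21, 24]),
   ([6, 12, 9, 8, 9, 12], [25, 20, 22, 24, 22, 20]),
   ([4, 11, 10, 10, 10, 11], [29, 22, 20, 20, 20, 22]),
   ([4, 8, 10, 16, 10, 8], [33, 24, 18, 16, 18, 24]),
   ([2, 16, 11, 0, 11, 16], [47, 16, 11, 32, 11, 16]),
   ([2, 12, 15, 0, 15, 12], [39, 12, 15, 40, 15, 12]),
   ([2, 6, 15, 12, 15, 6], [37, 26, 16, 12, 16, 26]),
   ([2, 0, 27, 0, 27, 0], [79, 0, 27, 0, 27, 0]),
   ([0, 27, 0, 2, 0, 27], [79, 0, 27, 0, 27, 0]),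
   ([0, 21, 0, 14, 0, 21], [49, 0, 42, 0, 42, 0]),
   ([0, 18, 0, 20, 0, 18], [49, 0, 42, 0, 42, 0]),
   ([0, 18, 0, 20, 0, 18], [43, 0, 45, 0, 45, 0]),
   ([0, 15, 12, 2, 12, 15], [39, 12, 15, 40, 15, 12]),
   ([0, 12, 0, 32, 0, 12], [67, 0, 33, 0, 33, 0]),
   ([0, 11, 16, 2, 16, 11], [47, 16, 11, 32, 11, 16]),
   ([0, 6, 12, 20, 12, 6], [39, 30, 15, 4, 15, 30]),
   ([0, 2, 16, 20, 16, 2], [49, 32, 10, 0, 10, 32]),
   ([0, 0, 12, 32, 12, 0], [67, 32, 1, 0, 1, 32]),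
   ([0, 0, 0, 56, 0, 0], [133, 0, 0, 0, 0, 0])]

theorem chk6 : chk 6 T6 = true := by decide +kernel

/-! ### powers -/

section pow
variable {K : Type u} [Field K] {M : Type v} [AddCommGroup M] [Module K M] [FiniteDimensional K M]

theorem finrank_ker_mul (T : Module.End K M) {p q : K[X]} (h : IsCoprime p q) :
    finrank K ↥(LinearMap.ker (aeval T (p * q))) = finrank K ↥(LinearMap.ker (aeval T p)) +
      finrank K ↥(LinearMap.ker (aeval T q)) := by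
  rw [← Polynomial.sup_ker_aeval_eq_ker_aeval_mul_of_coprime T h]
  have h1 := Submodule.finrank_sup_add_finrank_inf_eq (LinearMap.ker (aeval T p)) (LinearMap.ker (aeval T q))
  rw [(Polynomial.disjoint_ker_aeval_of_isCoprime T h).eq_bot, finrank_bot, add_zero] at h1
  exact h1

theorem ker_X_sub_C (T : Module.End K M) (μ : K) : finrank K ↥(LinearMap.ker (aeval T (X - C μ))) = ev T μ := by
  have h : aeval T (X - C μ) = T - μ • 1 := by
    rw [map_sub, aeval_X, aeval_C]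
    rfl
  rw [h, ev, Module.End.eigenspace_def]

theorem ev_sq (h2 : (2 : K) ≠ 0) (T : Module.End K M) : ev (T ^ 2) 1 = ev T 1 + ev T (-1) := by
  have hne : (1 : K) ≠ -1 := by
    intro h
    apply h2
    linear_combination h
  have hc : IsCoprime (X - C (1 : K)) (X - C (-1)) := Polynomial.isCoprime_X_sub_C_of_isUnit_sub (by
    rw [isUnit_iff_ne_zero]; exact sub_ne_zero.2 hne)
  rw [← ker_X_sub_C T 1, ← ker_X_sub_C T (-1), ← finrank_ker_mul T hc, ← ker_X_sub_C (T ^ 2) 1]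
  have : aeval (T ^ 2) (X - C (1 : K)) = aeval T (((X - C (1 : K)) * (X - C (-1 : K))) : K[X]) := by
    have e : ((X - C (1 : K)) * (X - C (-1)) : K[X]) = X ^ 2 - C 1 := by
      rw [C_neg, C_1]; ring
    rw [e, map_sub, map_sub, aeval_X, map_pow, aeval_X, aeval_C, aeval_C]
  rw [this]

theorem ev_cube {ω : K} (hω : ω ^ 2 + ω + 1 = 0) (h3 : (3 : K) ≠ 0) (T : Module.End K M) :
    ev (T ^ 3) 1 = ev T 1 + ev T ω + ev T (ω ^ 2) := by
  have h1 : (1 : K) ≠ ω := by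
    rintro rfl
    apply h3
    linear_combination hω
  have h2 : (1 : K) ≠ ω ^ 2 := by
    intro h
    apply h3
    have h' : ω = -2 := by linear_combination hω + h
    rw [h'] at h
    linear_combination -h
  have h4 : ω ≠ ω ^ 2 := by
    intro h
    have h' : ω * (ω - 1) = 0 := by linear_combination -h
    rcases mul_eq_zero.1 h' with h5 | h5
    · rw [h5] at hω
      norm_num at hω
    · exact h1 (by linear_combination -h5)
  have hu : ∀ {a b : K}, a ≠ b → IsUnit (a - b) := fun h => isUnit_iff_ne_zero.2 (sub_ne_zero.2 h)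
  have c1 : IsCoprime (X - C (1 : K)) (X - C ω) := Polynomial.isCoprime_X_sub_C_of_isUnit_sub (hu h1)
  have c2 : IsCoprime (X - C (1 : K)) (X - C (ω ^ 2)) := Polynomial.isCoprime_X_sub_C_of_isUnit_sub (hu h2)
  have c3 : IsCoprime (X - C ω) (X - C (ω ^ 2)) := Polynomial.isCoprime_X_sub_C_of_isUnit_sub (hu h4)
  rw [add_assoc, ← ker_X_sub_C T 1, ← ker_X_sub_C T ω, ← ker_X_sub_C T (ω ^ 2), ← finrank_ker_mul T c3,
    ← finrank_ker_mul T (c1.mul_right c2), ← ker_X_sub_C (T ^ 3) 1]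
  have : aeval (T ^ 3) (X - C (1 : K)) = aeval T (((X - C (1 : K)) * ((X - C ω) * (X - C (ω ^ 2)))) : K[X]) := by
    have e : ((X - C (1 : K)) * ((X - C ω) * (X - C (ω ^ 2))) : K[X]) = X ^ 3 - C 1 := by
      have e1 : C (ω ^ 2) = - C ω - 1 := by
        rw [← C_1, ← C_neg, ← C_sub]
        congr 1
        linear_combination hω
      have e2 : (C ω) ^ 2 = - C ω - 1 := by rw [← C_pow, e1]
      rw [e1, C_1]
      linear_combination (-(X - 1)) * e2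
    rw [e, map_sub, map_sub, aeval_X, map_pow, aeval_X, aeval_C, aeval_C]
  rw [this]

end pow

section six
variable {F : Type u} [Field F] [Finite F]

/-- **elements of order 6** -/
theorem six (h6 : (6 : F) ≠ 0) {x : Gh F} (hx : x ^ 6 = 1) :
    ∃ P ∈ T6, ev (V F x) 1 = P.1.getD 0 0 ∧ ev (V F (x ^ 2)) 1 = P.1.getD 0 0 + P.1.getD 3 0 ∧
      ev (V F (x ^ 3)) 1 = P.1.getD 0 0 + P.1.getD 2 0 + P.1.getD 4 0 ∧
      ev (L F x) 1 = P.2.getD 0 0 ∧ ev (L F (x ^ 2)) 1 = P.2.getD 0 0 + P.2.getD 3 0 := by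
  have h6' : ((6 : ℕ) : F) ≠ 0 := by exact_mod_cast h6
  obtain ⟨p, hpp, hp, hcop⟩ := exists_char h6'
  obtain ⟨ζ, hζ, P, hP, h1⟩ := pat chk6 (by norm_num) p hcop hx
  have h6K : (6 : AlgebraicClosure F) ≠ 0 := by
    intro h
    apply h6
    apply (algebraMap F (AlgebraicClosure F)).injective
    rw [map_ofNat, h, map_zero]
  have h2K : (2 : AlgebraicClosure F) ≠ 0 := by
    intro h
    apply h6K
    linear_combination 3 * h
  have h3K : (3 : AlgebraicClosure F) ≠ 0 := by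
    intro h
    apply h6K
    linear_combination 2 * h
  have hζ3 : ζ ^ 3 = -1 := by
    have h2 : (ζ ^ 3 - 1) * (ζ ^ 3 + 1) = 0 := by linear_combination hζ.pow_eq_one
    rcases mul_eq_zero.1 h2 with h3 | h3
    · exact absurd (sub_eq_zero.1 h3) (hζ.pow_ne_one_of_pos_of_lt (by norm_num) (by norm_num))
    · exact eq_neg_of_add_eq_zero_left h3
  have hω : (ζ ^ 2) ^ 2 + ζ ^ 2 + 1 = 0 := by
    have h2 : (ζ ^ 2 - 1) * ((ζ ^ 2) ^ 2 + ζ ^ 2 + 1) = 0 := by linear_combination hζ.pow_eq_one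
    rcases mul_eq_zero.1 h2 with h3 | h3
    · exact absurd (sub_eq_zero.1 h3) (hζ.pow_ne_one_of_pos_of_lt (by norm_num) (by norm_num))
    · exact h3
  have e0 := h1 0 (by norm_num)
  have e2 := h1 2 (by norm_num)
  have e3 := h1 3 (by norm_num)
  have e4 := h1 4 (by norm_num)
  rw [pow_zero, ev_V_one, ev_L_one] at e0
  rw [hζ3] at e3
  have h4 : ζ ^ 4 = (ζ ^ 2) ^ 2 := by ring
  rw [h4] at e4
  refine ⟨P, hP, e0.1, ?_, ?_, e0.2, ?_⟩
  · rw [← ev_V_one (algebraMap F (AlgebraicClosure F)), map_pow, map_pow, ev_sq h2K, e3.1, ev_V_one, e0.1]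
  · rw [← ev_V_one (algebraMap F (AlgebraicClosure F)), map_pow, map_pow, ev_cube hω h3K, e2.1, e4.1, ev_V_one, e0.1]
  · rw [← ev_L_one (algebraMap F (AlgebraicClosure F)), map_pow, map_pow, ev_sq h2K, e3.2, ev_L_one, e0.2]

end six

end Cfsg.Agent.R2.T1.E5
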