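import Cfsg.Agent.R2.T1.E5.Six
import Cfsg.Agent.R2.T1.E5.Count
import Cfsg.Agent.R2.T1.Inf.TorL

/-!
# S5771, n = 8, p = 5: commuting elements of order 3 (helper24)

* `no49` : four subgroups of order 3 in `3²` with 20 fixed weights; two of them cannot be of type `(20, 49)` if the other
  two have the same type.
-/

set_option autoImplicit false
set_option maxRecDepth 100000

namespace Cfsg.Agent.R2.T1.E5

open Cfsg Cfsg.Lie Module
open Cfsg.Agent.H943.E7V.Block (D1 rho)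
open Cfsg.Agent.H952.F4 (ev es)
open Cfsg.Agent.R2.T1

universe u

theorem key1 : ∀ P ∈ T6, P.1.getD 0 0 + P.1.getD 3 0 = 20 → P.1.getD 0 0 + P.1.getD 2 0 + P.1.getD 4 0 = 24 →
      8 ≤ P.1.getD 0 0 → P.1.getD 0 0 ≤ 12 → (P.1.getD 0 0 = 8 ∧ P.2.getD 0 0 + P.2.getD 3 0 = 43 ∧ P.2.getD 0 0 = 23) ∨
      (P.1.getD 0 0 = 8 ∧ P.2.getD 0 0 + P.2.getD 3 0 = 49 ∧ P.2.getD 0 0 = 25) ∨
      (P.1.getD 0 0 = 10 ∧ P.2.getD 0 0 + P.2.getD 3 0 = 49 ∧ P.2.getD 0 0 = 27) ∨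
      (P.1.getD 0 0 = 12 ∧ P.2.getD 0 0 + P.2.getD 3 0 = 43 ∧ P.2.getD 0 0 = 27) := by decide +kernel

theorem key2 : ∀ P ∈ T6, P.1.getD 0 0 = 20 → P.2.getD 0 0 = 49 → P.1.getD 0 0 + P.1.getD 2 0 + P.1.getD 4 0 ≠ 32 := by
    decide +kernel

variable {F : Type u} [Field F] [Finite F]

theorem six' (h6 : (6 : F) ≠ 0) {w s : Gh F} (hw : w ^ 3 = 1) (hs : s ^ 2 = 1) (hc : w * s = s * w) :
    ∃ P ∈ T6, ev (V F (w * s)) 1 = P.1.getD 0 0 ∧ ev (V F w) 1 = P.1.getD 0 0 + P.1.getD 3 0 ∧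
      ev (V F s) 1 = P.1.getD 0 0 + P.1.getD 2 0 + P.1.getD 4 0 ∧
      ev (L F (w * s)) 1 = P.2.getD 0 0 ∧ ev (L F w) 1 = P.2.getD 0 0 + P.2.getD 3 0 := by
  have hc' : Commute w s := hc
  have hu : (w * s) ^ 6 = 1 := by
    rw [hc'.mul_pow, show (6 : ℕ) = 3 * 2 by norm_num, pow_mul, hw, one_pow, one_mul, mul_comm 3 2, pow_mul, hs, one_pow]
  obtain ⟨P, hP, e1, e2, e3, e4, e5⟩ := six h6 hu
  have hu2 : (w * s) ^ 2 = w⁻¹ := by
    rw [hc'.mul_pow, hs, mul_one]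
    exact eq_inv_of_mul_eq_one_left (by rw [← pow_succ]; exact hw)
  have hu3 : (w * s) ^ 3 = s := by
    rw [hc'.mul_pow, hw, one_mul, pow_succ, hs, one_mul]
  rw [hu2, ev_inv] at e2 e5
  rw [hu3] at e3
  exact ⟨P, hP, e1, e2, e3, e4, e5⟩

/-- the table for an element `w s`, `w` of order 3 with 20 fixed weights, `s` an involution with 24 -/
theorem row (h6 : (6 : F) ≠ 0) {w s : Gh F} (hw : w ^ 3 = 1) (hs : s ^ 2 = 1) (hc : w * s = s * w)
    (hV : ev (V F w) 1 = 20) (hV24 : ev (V F s) 1 = 24) (h8 : 8 ≤ ev (V F (w * s)) 1) (h12 : ev (V F (w * s)) 1 ≤ 12) :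
    (ev (V F (w * s)) 1 = 8 ∧ ev (L F w) 1 = 43 ∧ ev (L F (w * s)) 1 = 23) ∨
    (ev (V F (w * s)) 1 = 8 ∧ ev (L F w) 1 = 49 ∧ ev (L F (w * s)) 1 = 25) ∨
    (ev (V F (w * s)) 1 = 10 ∧ ev (L F w) 1 = 49 ∧ ev (L F (w * s)) 1 = 27) ∨
    (ev (V F (w * s)) 1 = 12 ∧ ev (L F w) 1 = 43 ∧ ev (L F (w * s)) 1 = 27) := by
  obtain ⟨P, hP, e1, e2, e3, e4, e5⟩ := six' h6 hw hs hc
  rw [e2] at hV
  rw [e3] at hV24
  rw [e1] at h8 h12
  have h9 := key1 P hP hV hV24 h8 h12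
  rw [e1, e4, e5]
  exact h9

/-- the element `x s` -/
theorem row_x (h6 : (6 : F) ≠ 0) {w s : Gh F} (hw : w ^ 3 = 1) (hs : s ^ 2 = 1) (hc : w * s = s * w)
    (hVs : ev (V F s) 1 = 24 ∨ ev (V F s) 1 = 32) (h1 : ev (V F (w * s)) 1 = 20)
    (h2 : ev (L F (w * s)) 1 = 49) : ev (V F s) 1 = 24 := by
  obtain ⟨P, hP, e1, e2, e3, e4, e5⟩ := six' h6 hw hs hc
  rw [e1] at h1
  rw [e4] at h2
  have h9 := key2 P hP h1 h2
  rcases hVs with h | h
  · exact h
  · rw [e3] at h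
    exact absurd h h9

theorem odd_card (h2 : (2 : F) ≠ 0) : Odd (Nat.card F) := by
  by_contra h4
  rw [Nat.not_odd_iff_even] at h4
  have := Fintype.ofFinite F
  obtain ⟨k, hk⟩ := h4
  obtain ⟨n, hq, hn⟩ := FiniteField.card F (ringChar F)
  have h7 : ringChar F ∣ 2 := by
    have h8 : 2 ∣ (ringChar F) ^ (n : ℕ) := by
      rw [← hn, ← Nat.card_eq_fintype_card, hk]
      exact ⟨k, by ring⟩
    have h9 := Nat.prime_two.dvd_of_dvd_pow h8
    rw [(Nat.prime_dvd_prime_iff_eq Nat.prime_two hq).1 h9]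
  apply h2
  have := (ringChar.spec F 2).2 h7
  exact_mod_cast this

/-- the involution of the torus -/
theorem exists_s (h2 : (2 : F) ≠ 0) (h3 : (3 : F) ≠ 0) {x : Gh F} (hx : x ^ 3 = 1)
    (v1 : ev (V F x) 1 = 20) (l1 : ev (L F x) 1 = 49) : ∃ s : Gh F, s ^ 2 = 1 ∧ (∀ g, g * x = x * g → g * s = s * g) ∧
      (∀ v, V F x v = v → V F s v = v) ∧ (∀ v, L F x v = v → L F s v = v) ∧
      (ev (V F s) 1 = 24 ∨ ev (V F s) 1 = 32) ∧ ev (L F s) 1 = 69 := by
  obtain ⟨y, m, hT, hfix⟩ := tor49 h2 h3 hx v1 l1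
  have hm : Even m := by
    have h4 := odd_card (F := F) h2
    rcases hT.card with h5 | h5
    · rw [← h5] at h4
      rw [Nat.even_iff]
      rw [Nat.odd_iff] at h4
      omega
    · rw [Nat.even_iff]
      rw [Nat.odd_iff] at h4
      omega
  obtain ⟨m', hm'⟩ := hm
  have hm0 : 0 < m := by
    rcases Nat.eq_zero_or_pos m with h | h
    · exfalso
      have h5 := hT.card
      have := Fintype.ofFinite F
      have h9 := Fintype.one_lt_card (α := F)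
      rw [← Nat.card_eq_fintype_card] at h9
      rw [h] at h5
      omega
    · exact h
  have hs2 : (y ^ (3 * m')) ^ 2 = 1 := by
    rw [← pow_mul, show 3 * m' * 2 = 3 * m by omega, ← hT.order]
    exact pow_orderOf_eq_one y
  have hs1 : y ^ (3 * m') ≠ 1 := by
    intro h
    have h4 := orderOf_dvd_of_pow_eq_one h
    rw [hT.order] at h4
    have h5 := Nat.le_of_dvd (by omega) h4
    omega
  have hcomm : ∀ g, g * x = x * g → g * y ^ (3 * m') = y ^ (3 * m') * g := by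
    intro g hg
    have h4 : Commute g y := hT.comm g hg
    exact (h4.pow_right _).eq
  have hsV : ∀ v, V F x v = v → V F (y ^ (3 * m')) v = v := fun v hv => fix_pow (hfix v hv) _
  have hsL : ∀ v, L F x v = v → L F (y ^ (3 * m')) v = v := fun v hv => fix_pow (hT.fixL v hv) _
  generalize y ^ (3 * m') = s at hs2 hs1 hcomm hsV hsL
  have hss : s * s = 1 := by rw [← pow_two]; exact hs2
  have had : ad F s ≠ 1 := by
    intro h
    rcases ad_eq_one_iff.1 h with h4 | h4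
    · exact hs1 (faithful h4)
    · obtain ⟨v, hv0, hv⟩ : ∃ v : D1 → F, v ≠ 0 ∧ V F x v = v := by
        have h5 : Module.End.eigenspace (V F x) 1 ≠ ⊥ := by
          intro h6
          rw [ev, h6, finrank_bot] at v1
          omega
        obtain ⟨v, hv, hv0⟩ := Submodule.exists_mem_ne_zero_of_ne_bot h5
        rw [Module.End.mem_eigenspace_iff, one_smul] at hv
        exact ⟨v, hv0, hv⟩
      have h5 := hsV v hv
      rw [neg_apply h4] at h5
      have h6 : (2 : F) • v = 0 := by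
        rw [two_smul]
        nth_rewrite 1 [← h5]
        rw [neg_add_cancel]
      exact hv0 ((smul_eq_zero.1 h6).resolve_left h2)
  obtain ⟨hVs, hLs⟩ := two h2 hss had
  exact ⟨s, hs2, hcomm, hsV, hsL, hVs.symm, hLs⟩

theorem no49 (h2 : (2 : F) ≠ 0) (h3 : (3 : F) ≠ 0) {x z : Gh F} (hx : x ^ 3 = 1) (hz : z ^ 3 = 1) (hxz : x * z = z * x)
    (v1 : ev (V F x) 1 = 20) (v2 : ev (V F z) 1 = 20) (v3 : ev (V F (x * z)) 1 = 20) (v4 : ev (V F (x * z * z)) 1 = 20)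
    (l1 : ev (L F x) 1 = 49) (l2 : ev (L F z) 1 = 49) (l3 : ev (L F (x * z)) 1 = ev (L F (x * z * z)) 1) : False := by
  have h6 : (6 : F) ≠ 0 := by
    have : (6 : F) = 2 * 3 := by norm_num
    rw [this]
    exact mul_ne_zero h2 h3
  obtain ⟨s, hs2, hcomm, hsV, hsL, hVs, hLs⟩ := exists_s h2 h3 hx v1 l1
  have cx : x * s = s * x := hcomm x rfl
  have cz : z * s = s * z := hcomm z hxz.symm
  have kx : Commute x s := cx
  have kz : Commute z s := cz
  have cxz : (x * z) * s = s * (x * z) := kx.mul_left kz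
  have cxzz : (x * z * z) * s = s * (x * z * z) := (kx.mul_left kz).mul_left kz
  have hC : Commute x z := hxz
  have oxz : (x * z) ^ 3 = 1 := by rw [hC.mul_pow, hx, hz, one_mul]
  have oxzz : (x * z * z) ^ 3 = 1 := by
    rw [mul_assoc, (hC.mul_right hC).mul_pow, hx, one_mul, ← pow_two, ← pow_mul, mul_comm 2 3, pow_mul, hz, one_pow]
  obtain ⟨e, n1, n2, g1, g2, g3, g4⟩ := count (ρ := V F) h3 hx hz hs2 hxz cx cz hsV
  obtain ⟨e', n3, n4, -, -, -, g5⟩ := count (ρ := L F) h3 hx hz hs2 hxz cx cz hsL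
  rw [finrank_V] at n1
  rw [finrank_L] at n3
  have h24 := row_x h6 hx hs2 cx hVs (g4.trans v1) (g5.trans l1)
  have r1 := row h6 hz hs2 cz v2 h24 (by omega) (by omega)
  have r2 := row h6 oxz hs2 cxz v3 h24 (by omega) (by omega)
  have r3 := row h6 oxzz hs2 cxzz v4 h24 (by omega) (by omega)
  omega

end Cfsg.Agent.R2.T1.E5
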